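import Cfsg.Agent.Lib.ONSubgroups.DataM11
import Cfsg.Agent.Lib.CosetTable.ON122760.Data
import Cfsg.Agent.Lib.CosetTable.ONSimple.Data

/-! Evaluation of the certificate of the subgroup in the coset table action. -/

set_option autoImplicit false
set_option maxRecDepth 100000
set_option Elab.async false

namespace Cfsg.Agent.Lib.ONSubgroups

open Cfsg.Agent.Lib.CosetTable

theorem m11_fam : m11Data.famOK = true := by decide +kernel

theorem m11_base : m11Data.baseOK ONSimple.levels = true := by decide +kernel

theorem m11_tab : m11Data.tabOK ON122760.tab ON122760.cert.k = true := by decide +kernel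

theorem m11_r : m11Data.r = 55 := by decide +kernel

end Cfsg.Agent.Lib.ONSubgroups
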