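import Mathlib

/-!
A finite permutation group that moves a separating family of subsets of an invariant point set
is isomorphic to the group it induces on the indices of the family.
-/

set_option autoImplicit false

namespace Cfsg.Agent.Lib.ONSubgroups

variable {α P I : Type*}

/-- `x` maps the member `i` of the family into the member `σ i`. -/
def Moves (pts : P → α) (inc : I → P → Prop) (x : Equiv.Perm α) (σ : Equiv.Perm I) : Prop :=
  ∀ i p, inc i p → ∃ p', x (pts p) = pts p' ∧ inc (σ i) p'

theorem Moves.mul {pts : P → α} {inc : I → P → Prop} {x y : Equiv.Perm α} {σ τ : Equiv.Perm I}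
    (hx : Moves pts inc x σ) (hy : Moves pts inc y τ) : Moves pts inc (x * y) (σ * τ) := by
  intro i p h
  obtain ⟨q, e, hq⟩ := hy i p h
  obtain ⟨r, e', hr⟩ := hx _ q hq
  exact ⟨r, by rw [Equiv.Perm.mul_apply, e, e'], hr⟩

theorem Moves.one {pts : P → α} {inc : I → P → Prop} : Moves pts inc 1 1 :=
  fun _ p h => ⟨p, rfl, h⟩

theorem nonempty_iso_closure [Finite α] [Finite I] (pts : P → α) (hinj : Function.Injective pts)
    (inc : I → P → Prop) (hcov : ∀ p, ∃ i, inc i p)
    (hP : ∀ p p', (∀ i, inc i p ↔ inc i p') → p = p')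
    (hI : ∀ i i', (∀ p, inc i p ↔ inc i' p) → i = i')
    (a b : Equiv.Perm α) (qa qb : Equiv.Perm I)
    (ha : Moves pts inc a qa) (hb : Moves pts inc b qb)
    (hfix : ∀ x ∈ Subgroup.closure {a, b}, (∀ p, x (pts p) = pts p) → x = 1) :
    Nonempty (↥(Subgroup.closure {a, b}) ≃* ↥(Subgroup.closure {qa, qb})) := by
  let D : Subgroup (Equiv.Perm α × Equiv.Perm I) := Subgroup.closure {(a, qa), (b, qb)}
  have hD : ∀ d ∈ D, Moves pts inc d.1 d.2 := by
    intro d hd
    induction hd using Subgroup.closure_induction with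
    | mem d hd =>
      rcases hd with rfl | rfl
      · exact ha
      · exact hb
    | one => exact Moves.one
    | mul x y _ _ hx hy => exact hx.mul hy
    | inv x _ hx =>
      have hpow : ∀ k : ℕ, Moves pts inc (x ^ k).1 (x ^ k).2 := by
        intro k
        induction k with
        | zero => exact Moves.one
        | succ k ih => rw [pow_succ]; exact ih.mul hx
      have he : x⁻¹ = x ^ (orderOf x - 1) :=
        inv_eq_of_mul_eq_one_right (by
          rw [← pow_succ', Nat.sub_add_cancel (orderOf_pos x), pow_orderOf_eq_one])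
      exact he ▸ hpow _
  have hfst : D.map (MonoidHom.fst _ _) = Subgroup.closure {a, b} := by
    rw [MonoidHom.map_closure, Set.image_pair]; rfl
  have hsnd : D.map (MonoidHom.snd _ _) = Subgroup.closure {qa, qb} := by
    rw [MonoidHom.map_closure, Set.image_pair]; rfl
  have h1 : Function.Injective ((MonoidHom.fst (Equiv.Perm α) (Equiv.Perm I)).comp D.subtype) := by
    refine (MonoidHom.ker_eq_bot_iff _).mp (Subgroup.eq_bot_iff_forall _ |>.mpr fun d hd => ?_)
    obtain ⟨⟨x, σ⟩, hxD⟩ := d
    change x = 1 at hd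
    subst hd
    have hf := hD _ hxD
    have hi := hD _ (inv_mem hxD)
    refine Subtype.ext (Prod.ext rfl (Equiv.ext fun i => ?_))
    show σ i = i
    refine (hI _ _ fun p => ⟨fun h => ?_, fun h => ?_⟩)
    · obtain ⟨q, e, hq⟩ := hi _ p h
      obtain rfl : p = q := hinj (by simpa using e)
      simpa using hq
    · obtain ⟨q, e, hq⟩ := hf _ p h
      obtain rfl : p = q := hinj (by simpa using e)
      exact hq
  have h2 : Function.Injective ((MonoidHom.snd (Equiv.Perm α) (Equiv.Perm I)).comp D.subtype) := by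
    refine (MonoidHom.ker_eq_bot_iff _).mp (Subgroup.eq_bot_iff_forall _ |>.mpr fun d hd => ?_)
    obtain ⟨⟨x, σ⟩, hxD⟩ := d
    change σ = 1 at hd
    subst hd
    have hf := hD _ hxD
    have hi := hD _ (inv_mem hxD)
    have hxc : x ∈ Subgroup.closure {a, b} := hfst ▸ ⟨(x, 1), hxD, rfl⟩
    refine Subtype.ext (Prod.ext (hfix x hxc fun p => ?_) rfl)
    obtain ⟨i, hip⟩ := hcov p
    obtain ⟨q, e, -⟩ := hf i p hip
    rw [e]
    congr 1
    refine (hP _ _ fun j => ⟨fun h => ?_, fun h => ?_⟩)
    · obtain ⟨p', e', hp'⟩ := hi j q h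
      have e2 : pts p' = pts p := by
        rw [← e']; show x⁻¹ (pts q) = pts p; rw [← e, Equiv.Perm.inv_def, Equiv.symm_apply_apply]
      simpa [hinj e2] using hp'
    · obtain ⟨p', e', hp'⟩ := hf j p h
      have e2 : pts p' = pts q := e'.symm.trans e
      simpa [hinj e2] using hp'
  exact ⟨(((MulEquiv.ofBijective (MonoidHom.rangeRestrict
      ((MonoidHom.fst (Equiv.Perm α) (Equiv.Perm I)).comp D.subtype))
      ⟨fun _ _ h => h1 (congrArg Subtype.val h), MonoidHom.rangeRestrict_surjective _⟩).trans
    (MulEquiv.subgroupCongr (by rw [MonoidHom.range_comp, Subgroup.range_subtype, hfst]))).symm).trans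
    ((MulEquiv.ofBijective (MonoidHom.rangeRestrict
      ((MonoidHom.snd (Equiv.Perm α) (Equiv.Perm I)).comp D.subtype))
      ⟨fun _ _ h => h2 (congrArg Subtype.val h), MonoidHom.rangeRestrict_surjective _⟩).trans
    (MulEquiv.subgroupCongr (by rw [MonoidHom.range_comp, Subgroup.range_subtype, hsnd])))⟩

end Cfsg.Agent.Lib.ONSubgroups
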