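import Mathlib
import Cfsg.Agent.Lib.Compute.Perm

/-!
Groups generated by two coded permutations, for unknown codes: the instances on generated data
only instantiate these lemmas, so that no literal is ever unfolded while elaborating.
-/

set_option autoImplicit false

namespace Cfsg.Agent.Lib.ONSubgroups

open Cfsg.Agent.Lib.Compute

/-- the list consists of two pairs with the given first components -/
noncomputable def eqPair (l : List (ℕ × ℕ)) (a b : ℕ) : Bool :=
  match l with
  | [p, q] => Nat.beq p.1 a && Nat.beq q.1 b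
  | _ => false

theorem eqPair_spec : ∀ {l : List (ℕ × ℕ)} {a b : ℕ}, eqPair l a b = true →
    ∃ p q, l = [p, q] ∧ p.1 = a ∧ q.1 = b
  | [], _, _, h => by simp [eqPair] at h
  | [_], _, _, h => by simp [eqPair] at h
  | [p, q], a, b, h => by
    simp only [eqPair, Bool.and_eq_true] at h
    exact ⟨p, q, rfl, Nat.eq_of_beq_eq_true h.1, Nat.eq_of_beq_eq_true h.2⟩
  | _ :: _ :: _ :: _, _, _, h => by simp [eqPair] at h

variable {n : ℕ}

theorem exists_gen_pair (C : Coding (Equiv.Perm (Fin n)) (permOps 12 n)) {l : List (ℕ × ℕ)}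
    {a b : ℕ} (hl : eqPair l a b = true) (hok : GensOK C l) :
    ∃ σ τ, C.enc σ = a ∧ C.enc τ = b ∧ genGroup C l = Subgroup.closure {σ, τ} := by
  obtain ⟨p, q, rfl, rfl, rfl⟩ := eqPair_spec hl
  obtain ⟨σ, -, hσ, -⟩ := hok p (by simp)
  obtain ⟨τ, -, hτ, -⟩ := hok q (by simp)
  refine ⟨σ, τ, hσ, hτ, ?_⟩
  unfold genGroup
  congr 1
  ext g
  constructor
  · rintro ⟨r, hr, he⟩
    simp only [List.mem_cons, List.not_mem_nil, or_false] at hr
    rcases hr with rfl | rfl
    · exact .inl (C.inj (by rw [he, hσ]))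
    · exact .inr (C.inj (by rw [he, hτ]))
  · rintro (rfl | rfl)
    · exact ⟨p, by simp, hσ⟩
    · exact ⟨q, by simp, hτ⟩

theorem getP_of_enc (hn : n ≤ 2 ^ 12) {g : Equiv.Perm (Fin n)} {c : ℕ}
    (h : (permCoding 12 (Equiv.refl (Fin n)) hn).enc g = c) (i : Fin n) :
    ((g i : Fin n) : ℕ) = getP 12 c i := by
  subst h
  show _ = getP 12 (encP 12 (Equiv.refl _) g) i
  rw [getP_encP hn _ g i.2]
  simp [imgP]

/-- code of a word in coded pairs, first letter first -/
noncomputable def wordCode (m : ℕ) (P : List (ℕ × ℕ)) (w : List ℕ) : ℕ :=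
  w.foldl (fun acc k => (permOps 12 m).mul (P.getD k (0, 0)).1 acc) (permOps 12 m).one

theorem gens_le_of_words (C : Coding (Equiv.Perm (Fin n)) (permOps 12 n))
    {G P : List (ℕ × ℕ)} {w₀ w₁ : List ℕ} {a b : ℕ} (hP : eqPair P a b = true)
    (hG : eqPair G (wordCode n P w₀) (wordCode n P w₁) = true) (hok : GensOK C P)
    (h0 : w₀.all (fun k => Nat.blt k 2) = true) (h1 : w₁.all (fun k => Nat.blt k 2) = true) :
    genGroup C G ≤ genGroup C P := by
  obtain ⟨p, q, rfl, -, -⟩ := eqPair_spec hP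
  obtain ⟨r, s, rfl, hr, hs⟩ := eqPair_spec hG
  have hword : ∀ w : List ℕ, (∀ k ∈ w, Nat.blt k 2 = true) → ∀ acc,
      (∃ g ∈ genGroup C [p, q], C.enc g = acc) →
      ∃ g ∈ genGroup C [p, q], C.enc g =
        w.foldl (fun acc k => (permOps 12 n).mul (([p, q] : List (ℕ × ℕ)).getD k (0, 0)).1 acc)
          acc := by
    intro w
    induction w with
    | nil => intro _ acc h; exact h
    | cons k w ih =>
      intro hk acc h
      refine ih (fun x hx => hk x (List.mem_cons_of_mem _ hx)) _ ?_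
      have hk2 : k < ([p, q] : List (ℕ × ℕ)).length := by
        simpa [Nat.blt_eq] using hk k List.mem_cons_self
      have hmem : ([p, q] : List (ℕ × ℕ)).getD k (0, 0) ∈ [p, q] := by
        rw [List.getD_eq_getElem _ _ hk2]; exact List.getElem_mem hk2
      obtain ⟨g, hg, rfl⟩ := h
      obtain ⟨u, -, hu, -⟩ := hok _ hmem
      refine ⟨u * g, mul_mem (Subgroup.subset_closure ⟨_, hmem, hu⟩) hg, ?_⟩
      simp only [← hu]
      exact (C.mul_enc u g).symm
  refine (Subgroup.closure_le _).2 ?_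
  rintro g ⟨t, ht, he⟩
  have main : ∀ w, (∀ k ∈ w, Nat.blt k 2 = true) → t.1 = wordCode n [p, q] w →
      g ∈ genGroup C [p, q] := by
    intro w hw htw
    obtain ⟨u, hu, hue⟩ := hword w hw _ ⟨1, one_mem _, C.one_enc⟩
    have : g = u := C.inj (by rw [he, htw, hue]; rfl)
    exact this ▸ hu
  simp only [List.mem_cons, List.not_mem_nil, or_false] at ht
  rcases ht with rfl | rfl
  · exact main _ (List.all_eq_true.1 h0) hr
  · exact main _ (List.all_eq_true.1 h1) hs

end Cfsg.Agent.Lib.ONSubgroups
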