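import Mathlib
import Cfsg.Agent.Lib.ONSubgroups.DataJ1
import Cfsg.Agent.Lib.Compute.Janko.Model
import Cfsg.Agent.Lib.ONSubgroups.Pairs

/-! The small group of order 175560. -/

set_option autoImplicit false
set_option maxRecDepth 100000

namespace Cfsg.Agent.Lib.ONSubgroups

open Cfsg.Agent.Lib.Compute
open Cfsg.Agent.Lib.Compute.Janko

/-- the coding on 266 points -/
noncomputable def j1Coding : Coding (Equiv.Perm (Fin 266)) (permOps 12 266) :=
  permCoding 12 (Equiv.refl (Fin 266)) (by norm_num)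

theorem j1Pairs_ok : j1Pairs.all (pairCheck 12 266 j1Chain) = true := by decide +kernel

theorem j1_head : eqPair j1Pairs j1Data.qa j1Data.qb = true := by decide +kernel

theorem j1_words :
    eqPair j1Gens (wordCode 266 j1Pairs j1Word0) (wordCode 266 j1Pairs j1Word1) = true := by
  decide +kernel

theorem j1_word0 : j1Word0.all (fun k => Nat.blt k 2) = true := by decide +kernel

theorem j1_word1 : j1Word1.all (fun k => Nat.blt k 2) = true := by decide +kernel

/-- the closure of the two permutations of the sets has order 175560 and is simple -/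
theorem exists_j1_perms : ∃ σ τ : Equiv.Perm (Fin 266),
    (∀ i, ((σ i : Fin 266) : ℕ) = getP 12 j1Data.qa i) ∧
    (∀ i, ((τ i : Fin 266) : ℕ) = getP 12 j1Data.qb i) ∧
    IsSimpleGroup (Subgroup.closure {σ, τ}) ∧ Nat.card (Subgroup.closure {σ, τ}) = 175560 := by
  obtain ⟨hok, hle⟩ := gensOK_of_pairCheck (Equiv.refl (Fin 266)) (w := 12) (by norm_num)
    gensOK_j1 j1Chain_ok j1Pairs_ok
  have heq : genGroup j1Coding j1Pairs = genGroup j1Coding j1Gens :=
    le_antisymm hle (gens_le_of_words j1Coding j1_head j1_words hok j1_word0 j1_word1)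
  obtain ⟨σ, τ, hσ, hτ, hcl⟩ := exists_gen_pair j1Coding j1_head hok
  obtain ⟨e⟩ := Janko.exists_equiv
  have e' : ↥Cfsg.Spor.J1 ≃* ↥(Subgroup.closure {σ, τ}) :=
    e.trans (MulEquiv.subgroupCongr (heq.symm.trans hcl))
  refine ⟨σ, τ, fun i => getP_of_enc (by norm_num) hσ i, fun i => getP_of_enc (by norm_num) hτ i,
    ?_, ?_⟩
  · haveI := Cfsg.Agent.Lib.JankoOne.isSimpleGroup_janko
    exact MulEquiv.isSimpleGroup_congr e' |>.mp inferInstance
  · rw [← Nat.card_congr e'.toEquiv]
    exact Cfsg.Agent.Lib.JankoOne.card_janko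

end Cfsg.Agent.Lib.ONSubgroups
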