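import Mathlib
import Cfsg.Agent.Lib.ONSubgroups.DataM11
import Cfsg.Agent.Lib.ONSubgroups.CertM11
import Cfsg.Agent.Lib.ONSubgroups.Pairs

/-! The small group of order 7920. -/

set_option autoImplicit false
set_option maxRecDepth 100000

namespace Cfsg.Agent.Lib.ONSubgroups

open Cfsg.Agent.Lib.Compute

/-- the coding on 55 points -/
noncomputable def m11Coding : Coding (Equiv.Perm (Fin 55)) (permOps 12 55) :=
  permCoding 12 (Equiv.refl (Fin 55)) (by norm_num)

theorem m11Chain_ok : chainCheck (permOps 12 55) m11Gens m11Chain = true := by decide +kernel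

theorem m11Chain_size : chainSize m11Chain = 7920 := by decide +kernel

theorem m11Cert_ok : simpleCheck (permOps 12 55) m11Chain m11Cert = true := by decide +kernel

theorem m11_pairs : m11Gens.all (pairCheck 12 55 m11Chain) = true := by decide +kernel

theorem gensOK_m11Gens : GensOK m11Coding m11Gens := by
  intro p hp
  have := List.all_eq_true.1 m11_pairs p hp
  simp only [pairCheck, Bool.and_eq_true] at this
  obtain ⟨⟨⟨hc, h1⟩, h2⟩, -⟩ := this
  exact pairOK_of_permCheck _ _ hc (Nat.eq_of_beq_eq_true h1) (Nat.eq_of_beq_eq_true h2)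

theorem m11_head : eqPair m11Gens m11Data.qa m11Data.qb = true := by decide +kernel

/-- the closure of the two permutations of the sets has order 7920 and is simple -/
theorem exists_m11_perms : ∃ σ τ : Equiv.Perm (Fin 55),
    (∀ i, ((σ i : Fin 55) : ℕ) = getP 12 m11Data.qa i) ∧
    (∀ i, ((τ i : Fin 55) : ℕ) = getP 12 m11Data.qb i) ∧
    IsSimpleGroup (Subgroup.closure {σ, τ}) ∧ Nat.card (Subgroup.closure {σ, τ}) = 7920 := by
  obtain ⟨σ, τ, hσ, hτ, hg⟩ := exists_gen_pair m11Coding m11_head gensOK_m11Gens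
  refine ⟨σ, τ, fun i => getP_of_enc (by norm_num) hσ i, fun i => getP_of_enc (by norm_num) hτ i,
    ?_, ?_⟩
  · rw [← hg]; exact isSimpleGroup_genGroup _ gensOK_m11Gens m11Chain_ok m11Cert_ok
  · rw [← hg, card_genGroup _ gensOK_m11Gens m11Chain_ok, m11Chain_size]

end Cfsg.Agent.Lib.ONSubgroups
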