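import Mathlib
import Cfsg.Agent.Lib.ONSubgroups.M11
import Cfsg.Agent.Lib.ONSubgroups.J1
import Cfsg.Agent.Lib.ONSubgroups.ChecksM11
import Cfsg.Agent.Lib.ONSubgroups.ChecksJ1
import Cfsg.Agent.S1699

/-! The O'Nan group as a permutation group on 122760 points, with two simple subgroups. -/

set_option autoImplicit false

namespace Cfsg.Agent.Lib.ONSubgroups

open Cfsg.Agent.Lib.CosetTable

section

variable {C : Cert} {A : Big.Table} {N : ℕ} {G : Type*} [Group G] {f : ℕ → G}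

theorem exists_subgroup_iso (K : Big.Checked C A N) (M : Model f C)
    (φ : G →* Equiv.Perm (Fin A.n)) (hφ : ∀ g, g < C.k → φ (f g) = K.perm g) {b : ℕ}
    (hfin : Finite G ∧ Nat.card G ≤ b) (L : List (Big.Orb × List (List ℕ)))
    (hL : Big.LevelsOK C A L) (hb : Big.levelsCard L = b) (D : Data)
    (ht : D.tabOK A C.k = true) (hf : D.famOK = true) (hbase : D.baseOK L = true)
    {r : ℕ} (hr : D.r = r) (σ τ : Equiv.Perm (Fin r))
    (hσ : ∀ i : Fin r, ((σ i : Fin r) : ℕ) = Compute.getP 12 D.qa i)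
    (hτ : ∀ i : Fin r, ((τ i : Fin r) : ℕ) = Compute.getP 12 D.qb i) :
    ∃ H : Subgroup φ.range, Nonempty (↥H ≃* ↥(Subgroup.closure {σ, τ})) := by
  subst hr
  haveI := hfin.1
  have hw : (∀ a ∈ D.wa, a < C.k) ∧ ∀ a ∈ D.wb, a < C.k := by
    have h := ht
    simp only [Data.tabOK, Bool.and_eq_true, List.all_eq_true, blt_iff] at h
    exact ⟨h.1.1.1, h.1.1.2⟩
  have mem : ∀ w : List ℕ, (∀ a ∈ w, a < C.k) → eval K.perm w ∈ φ.range := fun w h =>
    ⟨eval f w, Big.Checked.map_eval K M φ hφ h⟩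
  have hS : Nat.card φ.range ≤ Big.levelsCard L :=
    hb ▸ le_trans (Nat.card_le_card_of_surjective _ φ.rangeRestrict_surjective) hfin.2
  obtain ⟨e⟩ := iso_of_data K D L hL (S := φ.range)
    (fun w h => mem w (hL.words_lt w h)) hS (mem _ hw.1) (mem _ hw.2) ht hf hbase σ τ hσ hτ
  have hle : Subgroup.closure {eval K.perm D.wa, eval K.perm D.wb} ≤ φ.range :=
    (Subgroup.closure_le _).2 (by
      rintro y (rfl | rfl)
      · exact mem _ hw.1
      · exact mem _ hw.2)
  exact ⟨_, ⟨(Subgroup.subgroupOfEquivOfLe hle).trans e⟩⟩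

end

theorem exists_realization (n : ℕ) (hn : ON122760.tab.n = n) (hdeg : n = 122760) (h0 : 0 < n) :
    ∃ H : Subgroup (Equiv.Perm (Fin n)), Cfsg.IsON H ∧ MulAction.IsPretransitive H (Fin n) ∧
      Nat.card (MulAction.stabilizer H (⟨0, h0⟩ : Fin n)) = 3753792 ∧
      (∃ K : Subgroup H, Cfsg.IsJ1 K) ∧ (∃ K : Subgroup H, Cfsg.IsM11 K) := by
  subst hn
  obtain ⟨φ, hφ⟩ := ONPres.exists_action
  obtain ⟨-, hinj⟩ := ON122760.checked.natCard_eq ONPres.model_top φ hφ ONPres.order_le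
    ONSimple.levels ONSimple.levels_ok ONSimple.levels_card
  obtain ⟨hsim, hc⟩ := Cfsg.Agent.S1699.result
  let e : Cfsg.Spor.ON ≃* φ.range := MonoidHom.ofInjective hinj
  have hcard : Nat.card φ.range = 460815505920 := (Nat.card_congr e.toEquiv).symm.trans hc
  haveI hpre : MulAction.IsPretransitive φ.range (Fin ON122760.tab.n) := by
    constructor
    intro i j
    obtain ⟨x, hx⟩ := Big.Checked.exists_map_zero ON122760.checked φ hφ i
    obtain ⟨y, hy⟩ := Big.Checked.exists_map_zero ON122760.checked φ hφ j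
    refine ⟨⟨φ (y * x⁻¹), _, rfl⟩, ?_⟩
    show φ (y * x⁻¹) i = j
    rw [map_mul, map_inv, Equiv.Perm.mul_apply, ← hx]
    simp [hy]
  refine ⟨φ.range, ⟨(MulEquiv.isSimpleGroup_congr e).mp hsim, hcard⟩, hpre, ?_, ?_, ?_⟩
  · have h1 := Subgroup.card_mul_index
      (MulAction.stabilizer φ.range (⟨0, h0⟩ : Fin ON122760.tab.n))
    rw [MulAction.index_stabilizer_of_transitive, Nat.card_fin, hcard] at h1
    exact Nat.eq_of_mul_eq_mul_right h0
      (h1.trans ((show (460815505920 : ℕ) = 3753792 * 122760 by norm_num).trans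
        (congrArg (3753792 * ·) hdeg.symm)))
  · obtain ⟨σ, τ, hσ, hτ, hs, hk⟩ := exists_j1_perms
    obtain ⟨H, ⟨i⟩⟩ := exists_subgroup_iso ON122760.checked ONPres.model_top φ hφ ONPres.order_le
      ONSimple.levels ONSimple.levels_ok ONSimple.levels_card j1Data j1_tab j1_fam j1_base j1_r
      σ τ hσ hτ
    exact ⟨H, (MulEquiv.isSimpleGroup_congr i).mpr hs, (Nat.card_congr i.toEquiv).trans hk⟩
  · obtain ⟨σ, τ, hσ, hτ, hs, hk⟩ := exists_m11_perms
    obtain ⟨H, ⟨i⟩⟩ := exists_subgroup_iso ON122760.checked ONPres.model_top φ hφ ONPres.order_le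
      ONSimple.levels ONSimple.levels_ok ONSimple.levels_card m11Data m11_tab m11_fam m11_base m11_r
      σ τ hσ hτ
    exact ⟨H, (MulEquiv.isSimpleGroup_congr i).mpr hs, (Nat.card_congr i.toEquiv).trans hk⟩

end Cfsg.Agent.Lib.ONSubgroups
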