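import Mathlib
import Cfsg.Agent.Lib.ONSubgroups.Incidence
import Cfsg.Agent.Lib.CosetTable.Big.Base
import Cfsg.Agent.Lib.Compute.Perm

/-!
Certificates: a subgroup generated by two words in a coset table action, transported to a small
degree permutation group through a separating family of subsets of one of its orbits.
-/

set_option autoImplicit false

namespace Cfsg.Agent.Lib.ONSubgroups

open Cfsg.Agent.Lib.CosetTable
open Cfsg.Agent.Lib.Compute

/-- the bit set of a list -/
noncomputable def maskOf (l : List ℕ) : ℕ :=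
  l.foldr (fun p r => Nat.lor (Nat.shiftLeft 1 p) r) 0

theorem testBit_maskOf : ∀ (l : List ℕ) (p : ℕ), (maskOf l).testBit p = true ↔ p ∈ l
  | [], p => by simp [maskOf]
  | q :: l, p => by
    have ih := testBit_maskOf l p
    show (Nat.lor (Nat.shiftLeft 1 q) (maskOf l)).testBit p = true ↔ _
    rw [show Nat.lor (Nat.shiftLeft 1 q) (maskOf l) = (1 <<< q) ||| maskOf l from rfl,
      Nat.testBit_lor, Bool.or_eq_true, ih, Nat.one_shiftLeft, Nat.testBit_two_pow,
      decide_eq_true_eq, List.mem_cons, eq_comm]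

/-- the data of one subgroup -/
structure Data where
  /-- number of points of the orbit -/
  m : ℕ
  /-- the orbit in increasing order, base `2^20` -/
  orb : ℕ
  /-- first word -/
  wa : List ℕ
  /-- second word -/
  wb : List ℕ
  /-- action of the first word on positions, base `2^12` -/
  pa : ℕ
  /-- action of the second word on positions, base `2^12` -/
  pb : ℕ
  /-- number of sets -/
  r : ℕ
  /-- code of the first permutation of the sets -/
  qa : ℕ
  /-- code of the second permutation of the sets -/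
  qb : ℕ
  /-- the sets -/
  sets : List (List ℕ)
  /-- for every position three sets meeting only there -/
  wit : List (ℕ × ℕ × ℕ)

variable {C : Cert} {A : Big.Table}

/-- row `i` of the family -/
noncomputable def Data.row (D : Data) (i : ℕ) : ℕ := maskOf (D.sets.getD i [])

/-- image of position `p` under a word -/
noncomputable def Data.stepOK (D : Data) (A : Big.Table) (w : List ℕ) (c p : ℕ) : Bool :=
  Nat.blt (getP 12 c p) D.m && Nat.beq (A.walk w (getP 20 D.orb p)) (getP 20 D.orb (getP 12 c p))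

/-- image of set `i` -/
noncomputable def Data.setOK (D : Data) (c q i : ℕ) : Bool :=
  Nat.beq (maskOf ((D.sets.getD i []).map fun p => getP 12 c p)) (D.row (getP 12 q i))

/-- position `p` is determined by the sets through it -/
noncomputable def Data.witOK (D : Data) (p : ℕ) : Bool :=
  let t := D.wit.getD p (0, 0, 0)
  Nat.blt t.1 D.r && Nat.blt t.2.1 D.r && Nat.blt t.2.2 D.r &&
    Nat.beq (Nat.land (D.row t.1) (Nat.land (D.row t.2.1) (D.row t.2.2))) (Nat.shiftLeft 1 p)

/-- all checks not involving the table -/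
noncomputable def Data.famOK (D : Data) : Bool :=
  ((List.range D.r).all fun i => (D.sets.getD i []).all fun p => Nat.blt p D.m) &&
  ((List.range D.r).all fun i => D.setOK D.pa D.qa i && D.setOK D.pb D.qb i) &&
  ((List.range D.m).all D.witOK) &&
  ((List.range D.r).all fun i => (List.range i).all fun j => !Nat.beq (D.row i) (D.row j))

/-- the checks involving the table -/
noncomputable def Data.tabOK (D : Data) (A : Big.Table) (k : ℕ) : Bool :=
  (D.wa.all fun a => Nat.blt a k) && (D.wb.all fun a => Nat.blt a k) &&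
  ((List.range D.m).all fun p =>
    Nat.blt (getP 20 D.orb p) A.n &&
      (Nat.beq p 0 || Nat.blt (getP 20 D.orb (p - 1)) (getP 20 D.orb p))) &&
  ((List.range D.m).all fun p => D.stepOK A D.wa D.pa p && D.stepOK A D.wb D.pb p)

/-- the base points of the ambient group lie in the orbit -/
noncomputable def Data.baseOK (D : Data) (L : List (Big.Orb × List (List ℕ))) : Bool :=
  L.all fun q => (List.range D.m).any fun p => Nat.beq (getP 20 D.orb p) (q.1.get 0)

variable {N : ℕ}

theorem eq_one_of_fix (K : Big.Checked C A N) {S : Subgroup (Equiv.Perm (Fin A.n))}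
    (L : List (Big.Orb × List (List ℕ))) (hL : Big.LevelsOK C A L)
    (hw : ∀ w ∈ Big.levelsWords L, eval K.perm w ∈ S) (hS : Nat.card S ≤ Big.levelsCard L)
    (x : Equiv.Perm (Fin A.n)) (hx : x ∈ S)
    (hfix : ∀ q ∈ L, ∀ i : Fin A.n, (i : ℕ) = q.1.get 0 → x i = i) : x = 1 := by
  have mem : ∀ (y : Equiv.Perm (Fin A.n)), y ∈ S → ∀ L' : List (Big.Orb × List (List ℕ)),
      (∀ q ∈ L', ∀ i : Fin A.n, (i : ℕ) = q.1.get 0 → y i = i) → y ∈ Big.fixBase S L' := by
    intro y hy L'
    induction L' with
    | nil => intro _; exact hy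
    | cons q L' ih =>
      intro h
      exact ⟨ih fun r hr => h r (List.mem_cons_of_mem _ hr), h q List.mem_cons_self⟩
  have h := Big.levelsCard_mul_le K L hL S hw
  have hpos : 0 < Big.levelsCard L := lt_of_lt_of_le Nat.card_pos hS
  have hle : Nat.card (Big.fixBase S L) ≤ 1 :=
    Nat.le_of_mul_le_mul_left (by rw [mul_one]; exact h.trans hS) hpos
  have := Finite.card_le_one_iff_subsingleton.mp hle
  exact congrArg Subtype.val (Subsingleton.elim (⟨x, mem x hx L hfix⟩ : Big.fixBase S L)
    ⟨1, mem 1 S.one_mem L fun _ _ _ _ => rfl⟩)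

theorem iso_of_data (K : Big.Checked C A N) (D : Data)
    (L : List (Big.Orb × List (List ℕ))) (hL : Big.LevelsOK C A L)
    {S : Subgroup (Equiv.Perm (Fin A.n))} (hw : ∀ w ∈ Big.levelsWords L, eval K.perm w ∈ S)
    (hS : Nat.card S ≤ Big.levelsCard L)
    (hwa : eval K.perm D.wa ∈ S) (hwb : eval K.perm D.wb ∈ S)
    (ht : D.tabOK A C.k = true) (hf : D.famOK = true) (hb : D.baseOK L = true)
    (σ τ : Equiv.Perm (Fin D.r))
    (hσ : ∀ i : Fin D.r, ((σ i : Fin D.r) : ℕ) = getP 12 D.qa i)
    (hτ : ∀ i : Fin D.r, ((τ i : Fin D.r) : ℕ) = getP 12 D.qb i) :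
    Nonempty (↥(Subgroup.closure {eval K.perm D.wa, eval K.perm D.wb}) ≃*
      ↥(Subgroup.closure {σ, τ})) := by
  simp only [Data.tabOK, Bool.and_eq_true, List.all_eq_true, List.mem_range, Bool.or_eq_true,
    blt_iff, beq_iff] at ht
  obtain ⟨⟨⟨ha, hbw⟩, horb⟩, hstep⟩ := ht
  simp only [Data.famOK, Bool.and_eq_true, List.all_eq_true, List.mem_range, blt_iff] at hf
  obtain ⟨⟨⟨hlt, hset⟩, hwit⟩, hrow⟩ := hf
  let pts : Fin D.m → Fin A.n := fun p => ⟨getP 20 D.orb p, (horb p p.2).1⟩
  have hmono : ∀ d p, p + d + 1 < D.m → getP 20 D.orb p < getP 20 D.orb (p + d + 1) := by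
    intro d
    induction d with
    | zero =>
      intro p hp
      have := (horb (p + 1) hp).2
      simpa using this
    | succ d ih =>
      intro p hp
      have h1 := ih p (by omega)
      have h2 := (horb (p + (d + 1) + 1) hp).2
      rw [Nat.add_sub_cancel] at h2
      rcases h2 with h2 | h2
      · omega
      · rw [show p + d + 1 = p + (d + 1) by omega] at h1
        exact h1.trans h2
  have hinj : Function.Injective pts := by
    intro p p' h
    have h' : getP 20 D.orb p = getP 20 D.orb p' := congrArg Fin.val h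
    rcases Nat.lt_trichotomy (p : ℕ) p' with hlt' | heq | hgt
    · obtain ⟨d, hd⟩ := Nat.exists_eq_add_of_lt hlt'
      have := hmono d p (hd ▸ p'.2)
      rw [← hd] at this
      omega
    · exact Fin.ext heq
    · obtain ⟨d, hd⟩ := Nat.exists_eq_add_of_lt hgt
      have := hmono d p' (hd ▸ p.2)
      rw [← hd] at this
      omega
  let inc : Fin D.r → Fin D.m → Prop := fun i p => (p : ℕ) ∈ D.sets.getD i []
  have inc_iff : ∀ i p, inc i p ↔ (D.row i).testBit p = true := fun i p =>
    (testBit_maskOf _ _).symm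
  have hmoves : ∀ (w : List ℕ) (c q : ℕ) (ρ : Equiv.Perm (Fin D.r)), (∀ a ∈ w, a < C.k) →
      (∀ p, p < D.m → D.stepOK A w c p = true) → (∀ i, i < D.r → D.setOK c q i = true) →
      (∀ i : Fin D.r, ((ρ i : Fin D.r) : ℕ) = getP 12 q i) →
      Moves pts inc (eval K.perm w) ρ := by
    intro w c q ρ hwl hs hq hρ i p hip
    have h1 := hs p p.2
    simp only [Data.stepOK, Bool.and_eq_true, blt_iff, beq_iff] at h1
    refine ⟨⟨getP 12 c p, h1.1⟩, Fin.ext ?_, ?_⟩
    · rw [K.eval_perm hwl]
      exact h1.2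
    · have h2 := hq i i.2
      simp only [Data.setOK, beq_iff] at h2
      rw [inc_iff, hρ, ← h2, testBit_maskOf]
      exact List.mem_map.2 ⟨p, hip, rfl⟩
  have hP : ∀ p p' : Fin D.m, (∀ i, inc i p ↔ inc i p') → p = p' := by
    intro p p' h
    have hw := hwit p p.2
    simp only [Data.witOK, Bool.and_eq_true, blt_iff, beq_iff] at hw
    obtain ⟨⟨⟨h1, h2⟩, h3⟩, he⟩ := hw
    have hp : ∀ q : ℕ, (Nat.shiftLeft 1 (p : ℕ)).testBit q = true ↔ q = p := by
      intro q
      rw [show Nat.shiftLeft 1 (p : ℕ) = 1 <<< (p : ℕ) from rfl, Nat.one_shiftLeft,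
        Nat.testBit_two_pow, decide_eq_true_eq, eq_comm]
    have hall := (hp p).2 rfl
    rw [← he] at hall
    simp only [show ∀ a b, Nat.land a b = a &&& b from fun _ _ => rfl, Nat.testBit_land,
      Bool.and_eq_true] at hall
    have g1 := (inc_iff _ _).1 ((h ⟨_, h1⟩).1 ((inc_iff _ _).2 hall.1))
    have g2 := (inc_iff _ _).1 ((h ⟨_, h2⟩).1 ((inc_iff _ _).2 hall.2.1))
    have g3 := (inc_iff _ _).1 ((h ⟨_, h3⟩).1 ((inc_iff _ _).2 hall.2.2))
    refine Fin.ext ((hp p').1 ?_).symm
    rw [← he]
    simp only [show ∀ a b, Nat.land a b = a &&& b from fun _ _ => rfl, Nat.testBit_land,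
      Bool.and_eq_true]
    exact ⟨g1, g2, g3⟩
  have hI : ∀ i i' : Fin D.r, (∀ p, inc i p ↔ inc i' p) → i = i' := by
    intro i i' h
    have he : D.row i = D.row i' := by
      refine Nat.eq_of_testBit_eq fun k => ?_
      rw [Bool.eq_iff_iff]
      by_cases hk : k < D.m
      · exact ((inc_iff i ⟨k, hk⟩).symm.trans (h _)).trans (inc_iff i' ⟨k, hk⟩)
      · constructor <;> intro hb' <;> exfalso <;> apply hk
        · exact hlt i i.2 k ((testBit_maskOf _ _).1 hb')
        · exact hlt i' i'.2 k ((testBit_maskOf _ _).1 hb')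
    rcases Nat.lt_trichotomy (i : ℕ) i' with hl | heq | hg
    · have := hrow i' i'.2 i hl
      simp [he] at this
    · exact Fin.ext heq
    · have := hrow i i.2 i' hg
      simp [he] at this
  have hcov : ∀ p : Fin D.m, ∃ i, inc i p := by
    intro p
    have hw := hwit p p.2
    simp only [Data.witOK, Bool.and_eq_true, blt_iff, beq_iff] at hw
    obtain ⟨⟨⟨h1, -⟩, -⟩, he⟩ := hw
    refine ⟨⟨_, h1⟩, (inc_iff _ _).2 ?_⟩
    have : (Nat.shiftLeft 1 (p : ℕ)).testBit p = true := by
      simp [show Nat.shiftLeft 1 (p : ℕ) = 1 <<< (p : ℕ) from rfl, Nat.one_shiftLeft]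
    rw [← he] at this
    simp only [show ∀ a b, Nat.land a b = a &&& b from fun _ _ => rfl, Nat.testBit_land,
      Bool.and_eq_true] at this
    exact this.1
  refine nonempty_iso_closure pts hinj inc hcov hP hI _ _ σ τ
    (hmoves _ _ _ σ ha (fun p hp => (hstep p hp).1) (fun i hi => (hset i hi).1) hσ)
    (hmoves _ _ _ τ hbw (fun p hp => (hstep p hp).2) (fun i hi => (hset i hi).2) hτ) ?_
  intro x hx hfix
  have hle : Subgroup.closure {eval K.perm D.wa, eval K.perm D.wb} ≤ S :=
    (Subgroup.closure_le _).2 (by rintro y (rfl | rfl) <;> assumption)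
  refine eq_one_of_fix K L hL hw hS x (hle hx) fun q hq i hi => ?_
  simp only [Data.baseOK, List.all_eq_true, List.any_eq_true, List.mem_range, beq_iff] at hb
  obtain ⟨p, hp, hpe⟩ := hb q hq
  have : i = pts ⟨p, hp⟩ := Fin.ext (hi.trans hpe.symm)
  rw [this]
  exact hfix _

end Cfsg.Agent.Lib.ONSubgroups
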